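import Groth.Agent.CohenLib.RegularField
import Groth.Agent.Unram17Lib.SmoothStalk
import Groth.Agent.WeilExtLib.Codim
import Groth.Agent.HenselLib.HenselizationExists
import Groth.Agent.S0537
import Groth.Agent.S0538
import Groth.Agent.S0539
import Groth.Agent.S9262
import Groth.Agent.S2451

/-! The strict henselization at a codimension one point of the special fibre of a smooth scheme over a
discrete valuation ring is a ramification index one extension. -/

set_option autoImplicit false
universe u

open IsLocalRing

namespace NeronPtsLib

variable (R : Type u) [CommRing R] [IsDomain R] [IsDiscreteValuationRing R]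
  (O : Type u) [CommRing O] [IsLocalRing O] [IsRegularLocalRing O] [Algebra R O] [IsLocalHom (algebraMap R O)]
  [Module.Flat R O] [Algebra.FormallySmooth R O]

/-- The maximal ideal of `R` generates that of `O`, and `O` is a discrete valuation ring. -/
theorem dvr_of_dim_le_one (hd : ringKrullDim O ≤ 1) :
    ∃ (_ : IsDomain O) (_ : IsDiscreteValuationRing O), (maximalIdeal R).map (algebraMap R O) = maximalIdeal O := by
  haveI : IsDomain O := CommAlgDim.isDomain_of_isRegularLocalRing _
  haveI : Module.FaithfullyFlat R O := Module.FaithfullyFlat.of_flat_of_isLocalHom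
  have hinj : Function.Injective (algebraMap R O) := FaithfulSMul.algebraMap_injective R O
  obtain ⟨ϖ, hϖ⟩ := IsDiscreteValuationRing.exists_irreducible R
  have hmem : algebraMap R O ϖ ∈ maximalIdeal O := map_nonunit _ _ hϖ.not_isUnit
  have hne : algebraMap R O ϖ ≠ 0 := fun h => hϖ.ne_zero (hinj (h.trans (map_zero _).symm))
  have hnf : ¬ IsField O := fun h => hne (by
    letI := h.toField
    rwa [IsLocalRing.maximalIdeal_eq_bot] at hmem)
  haveI := WeilExtLib.isDiscreteValuationRing_of_regular O hd hnf
  refine ⟨inferInstance, inferInstance, ?_⟩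
  let J := (maximalIdeal R).map (algebraMap R O)
  haveI : IsRegularLocalRing (O ⧸ J) := Unram17Lib.regularLocalRing_fib
  haveI : IsDomain (O ⧸ J) := CommAlgDim.isDomain_of_isRegularLocalRing _
  have hJp : J.IsPrime := (Ideal.Quotient.isDomain_iff_prime J).1 inferInstance
  have hJ0 : J ≠ ⊥ := fun h => hne (by
    have h1 : algebraMap R O ϖ ∈ J := Ideal.mem_map_of_mem _ ((IsLocalRing.mem_maximalIdeal _).2 hϖ.not_isUnit)
    rwa [h] at h1)
  exact IsLocalRing.eq_maximalIdeal (hJp.isMaximal hJ0)

/-- The residue field of `O` is formally smooth over that of `R`. -/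
theorem formallySmooth_residue (h : (maximalIdeal R).map (algebraMap R O) = maximalIdeal O) :
    Algebra.FormallySmooth (ResidueField R) (ResidueField O) := by
  haveI := CohenLib.formallySmooth_quotient R O (maximalIdeal R)
  letI : Algebra (R ⧸ maximalIdeal R) (ResidueField O) := inferInstanceAs (Algebra (ResidueField R) (ResidueField O))
  let e : (O ⧸ (maximalIdeal R).map (algebraMap R O)) ≃ₐ[R ⧸ maximalIdeal R] ResidueField O :=
    AlgEquiv.ofRingEquiv (f := Ideal.quotEquivOfEq h) fun z => by
      obtain ⟨a, rfl⟩ := Ideal.Quotient.mk_surjective z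
      rfl
  exact @Algebra.FormallySmooth.of_equiv (R ⧸ maximalIdeal R) _ _ _ _ _ _ _ _ e

/-- The strict henselization of `O`, as an extension of `R`. -/
theorem exists_strictHenselization (hd : ringKrullDim O ≤ 1) :
    ∃ (T : Type u) (_ : CommRing T) (_ : IsDomain T) (_ : IsDiscreteValuationRing T) (_ : Algebra R T)
      (_ : IsLocalHom (algebraMap R T)) (_ : HenselianLocalRing T) (_ : IsSepClosed (ResidueField T))
      (_ : Algebra O T) (_ : IsScalarTower R O T), Module.FaithfullyFlat O T ∧
      (maximalIdeal R).map (algebraMap R T) = maximalIdeal T ∧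
      Algebra.IsGeometricallyReduced (ResidueField R) (ResidueField T) := by
  obtain ⟨_, _, hRO⟩ := dvr_of_dim_le_one R O hd
  obtain ⟨T, _, _, _, _, hT⟩ := Groth.Agent.S0537.result O
  haveI := hT
  obtain ⟨_, hTdvr⟩ := (Groth.Agent.S9262.result O (HenselLib.HR O) T).2.1 ⟨inferInstance, inferInstance⟩
  haveI := hTdvr
  letI : Algebra R T := ((algebraMap O T).comp (algebraMap R O)).toAlgebra
  haveI : IsScalarTower R O T := IsScalarTower.of_algebraMap_eq fun _ => rfl
  haveI : IsLocalHom (algebraMap R T) := inferInstanceAs (IsLocalHom ((algebraMap O T).comp (algebraMap R O)))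
  haveI : HenselianLocalRing T := hT.henselian
  haveI : IsSepClosure (ResidueField O) (ResidueField T) := hT.isSepClosure
  haveI : IsSepClosed (ResidueField T) := IsSepClosure.sep_closed (ResidueField O)
  haveI : Algebra.IsSeparable (ResidueField O) (ResidueField T) := IsSepClosure.separable
  refine ⟨T, inferInstance, inferInstance, inferInstance, inferInstance, inferInstance, inferInstance, inferInstance,
    inferInstance, inferInstance, Groth.Agent.S0539.result O T, ?_, ?_⟩
  · rw [IsScalarTower.algebraMap_eq R O T, ← Ideal.map_map, hRO]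
    exact Groth.Agent.S0538.result O T
  · haveI := formallySmooth_residue R O hRO
    haveI : IsScalarTower (ResidueField R) (ResidueField O) (ResidueField T) :=
      IsScalarTower.of_algebraMap_eq fun z => by
        obtain ⟨a, rfl⟩ := IsLocalRing.residue_surjective z
        rfl
    haveI : Algebra.FormallyEtale (ResidueField O) (ResidueField T) := Algebra.FormallyEtale.of_isSeparable _ _
    haveI : Algebra.FormallySmooth (ResidueField R) (ResidueField T) :=
      Algebra.FormallySmooth.comp (ResidueField R) (ResidueField O) (ResidueField T)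
    exact (Groth.Agent.S2451.result).1 inferInstance

end NeronPtsLib
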